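import Groth.Agent.CAlgOdd.NagataFT.Local
import Groth.Agent.CplFib6.GeomRedFormal
import Groth.Agent.Hensel.HenselizationFibre
import Groth.Agent.FBaseLib.Reduced
import Groth.Agent.PopescuLib.HenzGRing
import Mathlib

/-! Formal fibres along henselizations; Nagata local rings. -/

set_option autoImplicit false
set_option linter.style.haveILetI false
universe u

namespace Groth.Agent.HenzFib7

open IsLocalRing TensorProduct
open Groth.Agent.FlatLoc6

/-- Nagata local rings have geometrically reduced formal fibres. -/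
theorem hasGeomReducedFormalFibres_of_isNagata (A : Type u) [CommRing A] [IsLocalRing A]
    (hA : CAlg.IsNagata A) : EGA4.HasGeomReducedFormalFibres A := by
  haveI := hA.1
  haveI := isLocalRing_cpl A
  haveI := isNoetherianRing_cpl A
  haveI := faithfullyFlat_cpl A
  intro p _
  refine geomReduced_of_finite fun L _ _ hL => ?_
  haveI := hL
  letI : Algebra A L := ((algebraMap p.ResidueField L).comp (algebraMap A p.ResidueField)).toAlgebra
  haveI : IsScalarTower A p.ResidueField L := IsScalarTower.of_algebraMap_eq' rfl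
  obtain ⟨B, hfin, hfrac⟩ := exists_domainModel p L
  haveI := hfin
  haveI := hfrac
  haveI h1 : IsReduced (B ⊗[A] EGA4.Cpl A) :=
    CAlgOdd.NagataFT.isReduced_tensor (maximalIdeal A) (EGA4.Cpl A) CAlgOdd.NagataFT.cpl_map_max
      CAlgOdd.NagataFT.cpl_dense B (N12Aux.isNagata_of_surjective _ Ideal.Quotient.mk_surjective hA)
  haveI : IsReduced (EGA4.Cpl A ⊗[A] B) :=
    isReduced_of_injective (Algebra.TensorProduct.comm A (EGA4.Cpl A) B)
      (Algebra.TensorProduct.comm A (EGA4.Cpl A) B).injective
  haveI : IsReduced (L ⊗[A] EGA4.Cpl A) :=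
    CplFib6.isReduced_tensor_localization A B L (nonZeroDivisors B) (EGA4.Cpl A)
  exact isReduced_of_injective (Algebra.TensorProduct.cancelBaseChange A p.ResidueField L L (EGA4.Cpl A))
    (Algebra.TensorProduct.cancelBaseChange A p.ResidueField L L (EGA4.Cpl A)).injective

/-- In a reduced integral algebra over a field, principal ideals are generated by idempotents. -/
theorem exists_sq_mul_eq (L T : Type u) [Field L] [CommRing T] [Algebra L T] [Algebra.IsIntegral L T]
    [IsReduced T] (d : T) : ∃ x : T, d ^ 2 * x = d := by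
  obtain ⟨f, hf, hfd⟩ := Algebra.IsIntegral.isIntegral (R := L) d
  obtain ⟨q, hq, hnd⟩ := Polynomial.exists_eq_pow_rootMultiplicity_mul_and_not_dvd f hf.ne_zero 0
  rw [map_zero, sub_zero] at hq hnd
  have hq0 : q.coeff 0 ≠ 0 := fun h0 => hnd (Polynomial.X_dvd_iff.2 h0)
  set k := f.rootMultiplicity 0
  rw [← Polynomial.aeval_def, hq, map_mul, map_pow, Polynomial.aeval_X] at hfd
  have h1 : d * Polynomial.aeval d q = 0 := by
    refine IsReduced.eq_zero _ ⟨k + 1, ?_⟩
    rw [mul_pow, pow_succ (Polynomial.aeval d q), show d ^ (k + 1) * (Polynomial.aeval d q ^ k * Polynomial.aeval d q) =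
      d * Polynomial.aeval d q ^ k * (d ^ k * Polynomial.aeval d q) by ring, hfd, mul_zero]
  have h2 : Polynomial.aeval d q = d * Polynomial.aeval d q.divX + algebraMap L T (q.coeff 0) := by
    have := congrArg (Polynomial.aeval d) (Polynomial.X_mul_divX_add q)
    rw [map_add, map_mul, Polynomial.aeval_X, Polynomial.aeval_C] at this
    exact this.symm
  rw [h2] at h1
  refine ⟨- (algebraMap L T (q.coeff 0)⁻¹ * Polynomial.aeval d q.divX), ?_⟩
  have h3 : algebraMap L T (q.coeff 0)⁻¹ * algebraMap L T (q.coeff 0) = 1 := by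
    rw [← map_mul, inv_mul_cancel₀ hq0, map_one]
  linear_combination (-algebraMap L T (q.coeff 0)⁻¹) * h1 + d * h3

/-- Two ring homs agreeing on the base induce a ring hom out of the tensor product. -/
theorem exists_lift {S L C D : Type u} [CommRing S] [CommRing L] [CommRing C] [CommRing D]
    [Algebra S L] [Algebra S C] (f : L →+* D) (g : C →+* D)
    (h : ∀ s, f (algebraMap S L s) = g (algebraMap S C s)) :
    ∃ Ψ : L ⊗[S] C →+* D, ∀ l c, Ψ (l ⊗ₜ[S] c) = f l * g c := by
  letI : Algebra S D := (g.comp (algebraMap S C)).toAlgebra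
  let gL : L →ₐ[S] D := { f with commutes' := h }
  let gC : C →ₐ[S] D := { g with commutes' := fun _ => rfl }
  exact ⟨(Algebra.TensorProduct.lift gL gC fun _ _ => Commute.all _ _).toRingHom, fun l c => by
    show Algebra.TensorProduct.lift gL gC _ (l ⊗ₜ[S] c) = _
    rw [Algebra.TensorProduct.lift_tmul]; rfl⟩

/-- Reducedness of a base change descends to the intermediate ring when the middle tensor is absolutely flat. -/
theorem isReduced_tensor_of_absolutelyFlat (R S L C : Type u) [CommRing R] [CommRing S] [CommRing L] [CommRing C]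
    [Algebra R S] [Algebra R L] [Algebra R C] [Algebra S L] [Algebra S C] [IsScalarTower R S L]
    [IsScalarTower R S C] (hflat : ∀ d : L ⊗[R] S, ∃ x, d ^ 2 * x = d) [IsReduced (L ⊗[R] C)] :
    IsReduced (L ⊗[S] C) := by
  let π : L ⊗[R] S →ₐ[R] L := Algebra.TensorProduct.lift (AlgHom.id R L) (IsScalarTower.toAlgHom R S L)
    fun _ _ => Commute.all _ _
  let j : L ⊗[R] S →ₐ[R] L ⊗[R] C := Algebra.TensorProduct.map (AlgHom.id R L) (IsScalarTower.toAlgHom R S C)
  let Φ : L ⊗[R] C →ₐ[R] L ⊗[S] C := Algebra.TensorProduct.lift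
    ((Algebra.TensorProduct.includeLeft : L →ₐ[S] L ⊗[S] C).restrictScalars R)
    ((Algebra.TensorProduct.includeRight : C →ₐ[S] L ⊗[S] C).restrictScalars R) fun _ _ => Commute.all _ _
  have hΦ : Function.Surjective Φ := fun y => by
    induction y using TensorProduct.induction_on with
    | zero => exact ⟨0, map_zero _⟩
    | tmul l c => exact ⟨l ⊗ₜ[R] c, by simp [Φ]⟩
    | add a b ha hb =>
      obtain ⟨a, rfl⟩ := ha
      obtain ⟨b, rfl⟩ := hb
      exact ⟨a + b, map_add _ _ _⟩
  have hΦj : ∀ t, Φ (j t) = (π t) ⊗ₜ[S] (1 : C) := fun t => by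
    induction t using TensorProduct.induction_on with
    | zero => simp
    | add a b ha hb => rw [map_add, map_add, ha, hb, map_add, TensorProduct.add_tmul]
    | tmul l s =>
      simp only [Φ, j, π, Algebra.TensorProduct.map_tmul, Algebra.TensorProduct.lift_tmul, AlgHom.id_apply,
        AlgHom.restrictScalars_apply, Algebra.TensorProduct.includeLeft_apply,
        Algebra.TensorProduct.includeRight_apply, Algebra.TensorProduct.tmul_mul_tmul, mul_one, one_mul,
        IsScalarTower.toAlgHom_apply, Algebra.algebraMap_eq_smul_one]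
      rw [mul_smul_comm, mul_one, TensorProduct.smul_tmul]
  let J : Ideal (L ⊗[R] C) :=
    { carrier := {x | ∃ t, π t = 1 ∧ j t * x = 0}
      zero_mem' := ⟨1, map_one _, mul_zero _⟩
      add_mem' := by
        rintro a b ⟨t, ht, hta⟩ ⟨s, hs, hsb⟩
        refine ⟨t * s, by rw [map_mul, ht, hs, one_mul], ?_⟩
        rw [map_mul, mul_add, mul_right_comm, hta, zero_mul, zero_add, mul_assoc, hsb, mul_zero]
      smul_mem' := by
        rintro r x ⟨t, ht, htx⟩
        exact ⟨t, ht, by rw [smul_eq_mul, mul_left_comm, htx, mul_zero]⟩ }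
  have hbal : ∀ s : S, ((algebraMap S L s) ⊗ₜ[R] (1 : C)) - ((1 : L) ⊗ₜ[R] algebraMap S C s) ∈ J := fun s => by
    obtain ⟨x, hx⟩ := hflat ((algebraMap S L s) ⊗ₜ[R] (1 : S) - (1 : L) ⊗ₜ[R] s)
    have hπ : π ((algebraMap S L s) ⊗ₜ[R] (1 : S) - (1 : L) ⊗ₜ[R] s) = 0 := by simp [π]
    refine ⟨1 - ((algebraMap S L s) ⊗ₜ[R] (1 : S) - (1 : L) ⊗ₜ[R] s) * x, ?_, ?_⟩
    · rw [map_sub, map_mul, hπ, zero_mul, map_one, sub_zero]
    · have hj : j ((algebraMap S L s) ⊗ₜ[R] (1 : S) - (1 : L) ⊗ₜ[R] s) =
          (algebraMap S L s) ⊗ₜ[R] (1 : C) - (1 : L) ⊗ₜ[R] algebraMap S C s := by simp [j]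
      rw [← hj, ← map_mul, show (1 - ((algebraMap S L s) ⊗ₜ[R] (1 : S) - (1 : L) ⊗ₜ[R] s) * x) *
        ((algebraMap S L s) ⊗ₜ[R] (1 : S) - (1 : L) ⊗ₜ[R] s) = 0 by linear_combination -hx, map_zero]
  obtain ⟨Ψ, hΨ'⟩ := exists_lift
    ((Ideal.Quotient.mk J).comp (Algebra.TensorProduct.includeLeftRingHom : L →+* L ⊗[R] C))
    ((Ideal.Quotient.mk J).comp (Algebra.TensorProduct.includeRight : C →ₐ[R] L ⊗[R] C).toRingHom)
    (fun s => Ideal.Quotient.eq.2 (hbal s))
  have hΨ : ∀ x, Ψ (Φ x) = Ideal.Quotient.mk J x := fun x => by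
    induction x using TensorProduct.induction_on with
    | zero => simp
    | add a b ha hb => rw [map_add, map_add, ha, hb, map_add]
    | tmul l c =>
      simp only [Φ, Algebra.TensorProduct.lift_tmul, AlgHom.restrictScalars_apply,
        Algebra.TensorProduct.includeLeft_apply, Algebra.TensorProduct.includeRight_apply,
        Algebra.TensorProduct.tmul_mul_tmul, mul_one, one_mul, hΨ']
      show Ideal.Quotient.mk J _ * Ideal.Quotient.mk J _ = _
      rw [← map_mul]
      simp
  refine ⟨fun y hy => ?_⟩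
  obtain ⟨w, rfl⟩ := hΦ y
  obtain ⟨n, hn⟩ := hy
  obtain ⟨t, ht, htw⟩ : w ^ n ∈ J := by
    rw [← Ideal.Quotient.eq_zero_iff_mem, ← hΨ, map_pow, hn, map_zero]
  have h0 : j t * w = 0 := IsReduced.eq_zero _ ⟨n + 1, by
    rw [mul_pow, pow_succ w, show j t ^ (n + 1) * (w ^ n * w) = j t ^ n * w * (j t * w ^ n) by ring, htw, mul_zero]⟩
  have := congrArg Φ h0
  rwa [map_mul, hΦj, ht, map_zero, ← Algebra.TensorProduct.one_def, one_mul] at this

/-- A henselization of a Noetherian local ring with geometrically reduced formal fibres has such fibres. -/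
theorem hasGeomReducedFormalFibres_henselization (R S : Type u) [CommRing R] [IsLocalRing R] [IsNoetherianRing R]
    [CommRing S] [IsLocalRing S] [Algebra R S] [IsLocalHom (algebraMap R S)] [_root_.Hensel.IsHenselization R S]
    (h : EGA4.HasGeomReducedFormalFibres R) : EGA4.HasGeomReducedFormalFibres S := by
  have hh := Hensel.isHenzLike_of_isHenselization R S
  haveI := hh.isNoetherianRing_iff.mp inferInstance
  haveI := hh.faithfullyFlat
  have hs : ∀ b : S, ∃ a, b - algebraMap R S a ∈ maximalIdeal S := fun b => by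
    obtain ⟨a, ha⟩ := Hensel.exists_sub_mem_of_isHenselization R S b
    exact ⟨a, by first | exact ha | (rw [← hh.map_maximalIdeal]; exact ha)⟩
  obtain ⟨_, _, hbij⟩ := PopescuLib.exists_cpl_iso R S hh.map_maximalIdeal hs
  let e : EGA4.Cpl R ≃ₐ[R] EGA4.Cpl S :=
    AlgEquiv.ofBijective (IsScalarTower.toAlgHom R (EGA4.Cpl R) (EGA4.Cpl S)) hbij
  intro q _
  refine geomReduced_of_finite fun L _ _ hL => ?_
  let p := q.comap (algebraMap R S)
  haveI : q.LiesOver p := ⟨rfl⟩
  letI : Algebra S L := ((algebraMap q.ResidueField L).comp (algebraMap S q.ResidueField)).toAlgebra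
  haveI : IsScalarTower S q.ResidueField L := IsScalarTower.of_algebraMap_eq' rfl
  letI : Algebra R L := ((algebraMap S L).comp (algebraMap R S)).toAlgebra
  haveI : IsScalarTower R S L := IsScalarTower.of_algebraMap_eq' rfl
  let ι : p.ResidueField →+* q.ResidueField := Ideal.ResidueField.map p q (algebraMap R S) rfl
  letI : Algebra p.ResidueField L := ((algebraMap q.ResidueField L).comp ι).toAlgebra
  haveI : IsScalarTower R p.ResidueField L := IsScalarTower.of_algebraMap_eq fun r => by
    show algebraMap S L (algebraMap R S r) = algebraMap q.ResidueField L (ι (algebraMap R p.ResidueField r))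
    show algebraMap q.ResidueField L (algebraMap S q.ResidueField (algebraMap R S r)) = _
    congr 1
    exact (Ideal.ResidueField.map_algebraMap p q (algebraMap R S) rfl r).symm
  haveI := h p
  haveI : IsReduced (L ⊗[p.ResidueField] EGA4.formalFibre R p) := FBaseLib.isReduced_field_tensor _ L
  haveI : IsReduced (L ⊗[R] EGA4.Cpl S) := by
    let E := ((Algebra.TensorProduct.cancelBaseChange R p.ResidueField L L (EGA4.Cpl R)).toRingEquiv.trans
      (Algebra.TensorProduct.congr (AlgEquiv.refl : L ≃ₐ[R] L) e).toRingEquiv)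
    exact isReduced_of_injective E.symm E.symm.injective
  obtain ⟨n, K, _, _, hsep, ⟨eK⟩⟩ := hh.exists_fibre_equiv_pi p
  haveI : Algebra.IsIntegral p.ResidueField (p.ResidueField ⊗[R] S) := ⟨fun x => by
    have hx : IsIntegral p.ResidueField (eK x) := by
      haveI := fun i => hsep i
      refine ⟨∏ i, minpoly p.ResidueField (eK x i), Polynomial.monic_prod_of_monic _ _ fun i _ =>
        minpoly.monic (Algebra.IsIntegral.isIntegral _), ?_⟩
      rw [← Polynomial.aeval_def]
      funext i
      show (Pi.evalAlgHom p.ResidueField K i) (Polynomial.aeval (eK x) (∏ i, minpoly p.ResidueField (eK x i))) = 0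
      rw [← Polynomial.aeval_algHom_apply, map_prod]
      exact Finset.prod_eq_zero (Finset.mem_univ i) (minpoly.aeval _ _)
    simpa using hx.map eK.symm.toAlgHom⟩
  haveI : Algebra.IsIntegral L (L ⊗[R] S) := ⟨fun x => by
    have := (Algebra.IsIntegral.isIntegral (R := L)
      ((Algebra.TensorProduct.cancelBaseChange R p.ResidueField L L S).symm x)).map
      (Algebra.TensorProduct.cancelBaseChange R p.ResidueField L L S).toAlgHom
    simpa using this⟩
  haveI : IsReduced (L ⊗[R] S) := by
    haveI := hh.isReduced_tensor L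
    exact isReduced_of_injective (Algebra.TensorProduct.comm R L S) (Algebra.TensorProduct.comm R L S).injective
  haveI : IsReduced (L ⊗[S] EGA4.Cpl S) :=
    isReduced_tensor_of_absolutelyFlat R S L (EGA4.Cpl S) (exists_sq_mul_eq L (L ⊗[R] S))
  exact isReduced_of_injective (Algebra.TensorProduct.cancelBaseChange S q.ResidueField L L (EGA4.Cpl S))
    (Algebra.TensorProduct.cancelBaseChange S q.ResidueField L L (EGA4.Cpl S)).injective

/-- Nagata is equivalent for a Noetherian local ring and its henselization. -/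
theorem isNagata_henselization_iff (R S : Type u) [CommRing R] [IsLocalRing R] [IsNoetherianRing R]
    [CommRing S] [IsLocalRing S] [Algebra R S] [IsLocalHom (algebraMap R S)] [_root_.Hensel.IsHenselization R S]
    (hN : ∀ (A : Type u) [CommRing A] [IsNoetherianRing A] [IsLocalRing A],
      EGA4.HasGeomReducedFormalFibres A → CAlg.IsNagata A) :
    CAlg.IsNagata S ↔ CAlg.IsNagata R := by
  have hh := Hensel.isHenzLike_of_isHenselization R S
  haveI := hh.isNoetherianRing_iff.mp inferInstance
  haveI := hh.faithfullyFlat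
  refine ⟨fun hS => hN R (CplFib6.hasGeomReducedFormalFibres_descend R S (fun L _ _ => hh.isReduced_tensor L)
    (hasGeomReducedFormalFibres_of_isNagata S hS)), fun hR => hN S ?_⟩
  exact hasGeomReducedFormalFibres_henselization R S (hasGeomReducedFormalFibres_of_isNagata R hR)

end Groth.Agent.HenzFib7
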