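import Groth.Agent.PopescuLib.HenzCatenary
import Groth.Agent.FormCat.CM
import Groth.Agent.ArtFlat.Regular

/-! Henselizations of formally strictly catenary rings. -/

set_option autoImplicit false
set_option linter.style.haveILetI false
universe u

namespace Groth.Agent.HenzFib7

open IsLocalRing
open Groth.Agent.FlatLoc6

/-- Associated primes of a quotient ring, in terms of the ring. -/
theorem mem_ass_quotient_iff {B : Type u} [CommRing B] [IsNoetherianRing B] (a : Ideal B) (x : Ideal (B ⧸ a)) :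
    x ∈ associatedPrimes (B ⧸ a) (B ⧸ a) ↔ x.IsPrime ∧
      ∃ w : B, ∀ c, c ∈ x.comap (Ideal.Quotient.mk a) ↔ c * w ∈ a := by
  rw [Alg6.mem_ass_iff]
  refine and_congr_right fun _ => ⟨fun ⟨z, hz⟩ => ?_, fun ⟨w, hw⟩ => ⟨Ideal.Quotient.mk a w, fun c => ?_⟩⟩
  · obtain ⟨w, rfl⟩ := Ideal.Quotient.mk_surjective z
    exact ⟨w, fun c => by rw [Ideal.mem_comap, hz, smul_eq_mul, ← map_mul, Ideal.Quotient.eq_zero_iff_mem]⟩
  · obtain ⟨c, rfl⟩ := Ideal.Quotient.mk_surjective c
    rw [← Ideal.mem_comap, hw, smul_eq_mul, ← map_mul, Ideal.Quotient.eq_zero_iff_mem]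

/-- A quotient all of whose associated primes are associated primes of a strictly equidimensional quotient
is strictly equidimensional. -/
theorem isStrictlyEquidim_quotient_of_ass {B : Type u} [CommRing B] [IsNoetherianRing B] (a b : Ideal B)
    (hle : a ≤ b) (hb : b ≠ ⊤)
    (hsub : ∀ P : Ideal B, P.IsPrime → ∀ w : B, (∀ c, c ∈ P ↔ c * w ∈ b) → ∃ w' : B, ∀ c, c ∈ P ↔ c * w' ∈ a)
    (h : EGA4.IsStrictlyEquidim (B ⧸ a)) : EGA4.IsStrictlyEquidim (B ⧸ b) := by
  haveI : Nontrivial (B ⧸ b) := Ideal.Quotient.nontrivial_iff.mpr hb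
  have key : ∀ x ∈ associatedPrimes (B ⧸ b) (B ⧸ b), ringKrullDim ((B ⧸ b) ⧸ x) = ringKrullDim (B ⧸ a) := by
    intro x hx
    obtain ⟨hxp, w, hw⟩ := (mem_ass_quotient_iff b x).1 hx
    haveI := hxp
    let P := x.comap (Ideal.Quotient.mk b)
    have hbP : b ≤ P := Ideal.mk_ker.symm.le.trans (Ideal.ker_le_comap _)
    have haP : a ≤ P := hle.trans hbP
    have hcm : (P.map (Ideal.Quotient.mk a)).comap (Ideal.Quotient.mk a) = P :=
      (Ideal.comap_map_of_surjective _ Ideal.Quotient.mk_surjective P).trans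
        (by rw [← RingHom.ker_eq_comap_bot, Ideal.mk_ker, sup_eq_left.2 haP])
    have hP : P.map (Ideal.Quotient.mk a) ∈ associatedPrimes (B ⧸ a) (B ⧸ a) := by
      refine (mem_ass_quotient_iff a _).2 ⟨Ideal.map_isPrime_of_surjective Ideal.Quotient.mk_surjective
        (by rwa [Ideal.mk_ker]), ?_⟩
      rw [hcm]
      exact hsub P inferInstance w hw
    rw [← h _ hP, ringKrullDim_eq_of_ringEquiv (DoubleQuot.quotQuotEquivQuotOfLE haP)]
    have hx' : P.map (Ideal.Quotient.mk b) = x :=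
      Ideal.map_comap_of_surjective _ Ideal.Quotient.mk_surjective x
    rw [← ringKrullDim_eq_of_ringEquiv (DoubleQuot.quotQuotEquivQuotOfLE hbP),
      ringKrullDim_eq_of_ringEquiv (Ideal.quotEquivOfEq hx')]
  intro x hx
  rw [key x hx]
  refine le_antisymm ?_ (ringKrullDim_le_of_surjective _ (Ideal.Quotient.factor_surjective hle))
  obtain ⟨y, hy⟩ := associatedPrimes.nonempty (B ⧸ b) (B ⧸ b)
  rw [← key y hy]
  exact ringKrullDim_quotient_le y

theorem mul_mem_map {S C : Type u} [CommRing S] [CommRing C] (f : S →+* C) (q I : Ideal S) (z : S)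
    (h : ∀ s ∈ q, s * z ∈ I) {x : C} (hx : x ∈ q.map f) : f z * x ∈ I.map f := by
  have h1 : q.map f ≤ Submodule.comap (LinearMap.mulLeft C (f z)) (I.map f) :=
    Ideal.map_le_iff_le_comap.2 fun s hs => by
      show f z * f s ∈ I.map f
      rw [← map_mul, mul_comm z s]
      exact Ideal.mem_map_of_mem f (h s hs)
  exact h1 hx

/-- An extension with the same completion and discrete fibres stays formally strictly catenary. -/
theorem isFormallyStrictlyCatenary_of_cpl_iso (R S : Type u) [CommRing R] [CommRing S] [IsLocalRing R]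
    [IsLocalRing S] [IsNoetherianRing R] [IsNoetherianRing S] [Algebra R S] [IsLocalHom (algebraMap R S)]
    [Module.Flat R S]
    (hm : (maximalIdeal R).map (algebraMap R S) = maximalIdeal S)
    (hs : ∀ b : S, ∃ a, b - algebraMap R S a ∈ maximalIdeal S)
    (hfib : ∀ (q q' : Ideal S) [q.IsPrime] [q'.IsPrime], q ≤ q' →
      q.comap (algebraMap R S) = q'.comap (algebraMap R S) → q = q')
    (hR : EGA4.IsFormallyStrictlyCatenary R) : EGA4.IsFormallyStrictlyCatenary S := by
  intro q hq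
  haveI := isLocalRing_cpl S
  haveI := isNoetherianRing_cpl S
  haveI := isLocalRing_cpl R
  haveI := isNoetherianRing_cpl R
  haveI := faithfullyFlat_cpl S
  obtain ⟨_, _, hbij⟩ := PopescuLib.exists_cpl_iso R S hm hs
  let e : EGA4.Cpl R ≃+* EGA4.Cpl S := RingEquiv.ofBijective (algebraMap (EGA4.Cpl R) (EGA4.Cpl S)) hbij
  let p := q.comap (algebraMap R S)
  haveI : IsLocalRing (R ⧸ p) := .of_surjective' _ Ideal.Quotient.mk_surjective
  haveI : IsLocalRing (S ⧸ q) := .of_surjective' _ Ideal.Quotient.mk_surjective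
  haveI := isNoetherianRing_cpl (R ⧸ p)
  haveI := isNoetherianRing_cpl (S ⧸ q)
  obtain ⟨eR⟩ := FormalFib6.exists_cplQuotEquiv R (R ⧸ p) Ideal.Quotient.mk_surjective
  obtain ⟨eS⟩ := FormalFib6.exists_cplQuotEquiv S (S ⧸ q) Ideal.Quotient.mk_surjective
  let εR : (EGA4.Cpl R ⧸ p.map (algebraMap R (EGA4.Cpl R))) ≃+* EGA4.Cpl (R ⧸ p) :=
    ((Algebra.TensorProduct.quotIdealMapEquivTensorQuot (EGA4.Cpl R) p).toRingEquiv.trans
      (Algebra.TensorProduct.comm R (EGA4.Cpl R) (R ⧸ p)).toRingEquiv).trans eR.toRingEquiv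
  let εS : (EGA4.Cpl S ⧸ q.map (algebraMap S (EGA4.Cpl S))) ≃+* EGA4.Cpl (S ⧸ q) :=
    ((Algebra.TensorProduct.quotIdealMapEquivTensorQuot (EGA4.Cpl S) q).toRingEquiv.trans
      (Algebra.TensorProduct.comm S (EGA4.Cpl S) (S ⧸ q)).toRingEquiv).trans eS.toRingEquiv
  let a := (p.map (algebraMap R (EGA4.Cpl R))).map e.toRingHom
  have hab : a = (p.map (algebraMap R S)).map (algebraMap S (EGA4.Cpl S)) := by
    show Ideal.map _ _ = _
    rw [Ideal.map_map, Ideal.map_map, ← IsScalarTower.algebraMap_eq R S (EGA4.Cpl S),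
      IsScalarTower.algebraMap_eq R (EGA4.Cpl R) (EGA4.Cpl S)]
    rfl
  have hle : a ≤ q.map (algebraMap S (EGA4.Cpl S)) := hab ▸ Ideal.map_mono Ideal.map_comap_le
  have hb : q.map (algebraMap S (EGA4.Cpl S)) ≠ ⊤ := fun h => hq.ne_top (by
    rw [← Ideal.comap_map_eq_self_of_faithfullyFlat (B := EGA4.Cpl S) q, h, Ideal.comap_top])
  have hmin : q ∈ (p.map (algebraMap R S)).minimalPrimes := by
    refine ⟨⟨hq, Ideal.map_comap_le⟩, fun K hK hKq => ?_⟩
    haveI := hK.1
    exact (hfib K q hKq (le_antisymm (Ideal.comap_mono hKq) (Ideal.map_le_iff_le_comap.1 hK.2))).ge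
  obtain ⟨z, hz⟩ : ∃ z : S, ∀ s, s ∈ q ↔ s * z ∈ p.map (algebraMap R S) := by
    have hA : q ∈ associatedPrimes S (S ⧸ p.map (algebraMap R S)) :=
      Module.associatedPrimes.minimalPrimes_annihilator_subset_associatedPrimes (R := S)
        (S ⧸ p.map (algebraMap R S)) (by rwa [Ideal.annihilator_quotient])
    obtain ⟨_, w, hw⟩ := Alg6.mem_ass_iff.1 hA
    obtain ⟨z, rfl⟩ := Ideal.Quotient.mk_surjective w
    refine ⟨z, fun s => ?_⟩
    rw [hw, Algebra.smul_def, Ideal.Quotient.algebraMap_eq, ← map_mul, Ideal.Quotient.eq_zero_iff_mem]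
  have key : ∀ x : EGA4.Cpl S, algebraMap S (EGA4.Cpl S) z * x ∈ a → x ∈ q.map (algebraMap S (EGA4.Cpl S)) := by
    intro x hx
    rw [hab] at hx
    have h1 : z • x ∈ (p.map (algebraMap R S) • ⊤ : Submodule S (EGA4.Cpl S)) := by
      rw [Ideal.smul_top_eq_map, Submodule.restrictScalars_mem, Algebra.smul_def]
      exact hx
    have h2 := ArtFlat.mem_colon_smul _ z x h1
    rw [Ideal.smul_top_eq_map, Submodule.restrictScalars_mem] at h2
    refine Ideal.map_mono (fun s hs => (hz s).2 ?_) h2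
    rw [LinearMap.mem_ker, LinearMap.toSpanSingleton_apply, Algebra.smul_def, Ideal.Quotient.algebraMap_eq,
      ← map_mul, Ideal.Quotient.eq_zero_iff_mem] at hs
    exact hs
  refine FormCat.isStrictlyEquidim_of_ringEquiv εS
    (isStrictlyEquidim_quotient_of_ass a _ hle hb (fun P _ w hw => ⟨algebraMap S (EGA4.Cpl S) z * w, fun c => ?_⟩)
      (FormCat.isStrictlyEquidim_of_ringEquiv (εR.symm.trans (Ideal.quotientEquiv _ a e rfl)) (hR p)))
  rw [hw]
  constructor
  · intro h
    rw [mul_left_comm, hab]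
    exact mul_mem_map _ _ _ z (fun s hs => (hz s).1 hs) h
  · intro h
    rw [mul_left_comm] at h
    exact key _ h

/-- A henselization of a formally strictly catenary Noetherian local ring is formally strictly catenary. -/
theorem isFormallyStrictlyCatenary_henselization (R S : Type u) [CommRing R] [IsLocalRing R] [IsNoetherianRing R]
    [CommRing S] [IsLocalRing S] [Algebra R S] [IsLocalHom (algebraMap R S)] [_root_.Hensel.IsHenselization R S]
    (h : EGA4.IsFormallyStrictlyCatenary R) : EGA4.IsFormallyStrictlyCatenary S := by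
  have hh := Hensel.isHenzLike_of_isHenselization R S
  haveI := hh.isNoetherianRing_iff.mp inferInstance
  haveI := hh.faithfullyFlat
  refine isFormallyStrictlyCatenary_of_cpl_iso R S hh.map_maximalIdeal (fun b => ?_)
    (fun q q' _ _ hle heq => hh.eq_of_le_of_comap_eq hle heq) h
  obtain ⟨a, ha⟩ := Hensel.exists_sub_mem_of_isHenselization R S b
  exact ⟨a, by first | exact ha | (rw [← hh.map_maximalIdeal]; exact ha)⟩

end Groth.Agent.HenzFib7
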